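import Groth.Agent.SymRegLib.Diag
import Groth.Agent.S0255
import Groth.Agent.S0565
import Groth.Agent.FlatSymLib.QuotIso
import Groth.Agent.QuotLib.EtaleQuot
import Groth.Agent.QuotLib.Props
import Groth.Agent.DimFormulaLib.Surjective
import Groth.Agent.PurityLib.Normal
import Groth.Agent.ASp.GeomRedEt

/-! Where a symmetric power of a smooth scheme is regular. -/

set_option autoImplicit false
set_option backward.isDefEq.respectTransparency false
set_option backward.isDefEq.respectTransparency.types false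
set_option linter.style.haveILetI false
set_option maxHeartbeats 800000
universe u
open CategoryTheory CategoryTheory.Limits AlgebraicGeometry TopologicalSpace

noncomputable section

namespace Groth.Agent.SymRegLib

section quot

variable {X Y : Scheme.{u}} {G : Type u} [Group G] [Finite G] {ρ : G →* Aut X} {p : X ⟶ Y}

theorem isOpenMap_quot (hp : SGA1.IsQuot ρ p) : IsOpenMap p.base := by
  intro U hU
  rw [← (QuotLib.isQuotientMap hp).isOpen_preimage]
  have h : p.base ⁻¹' (p.base '' U) = ⋃ g : G, (ρ g).hom.base ⁻¹' U := by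
    ext z
    constructor
    · rintro ⟨w, hw, e⟩
      obtain ⟨g, hg⟩ := QuotLib.exists_eq_of_base_eq hp e.symm
      exact Set.mem_iUnion.2 ⟨g, show (ρ g).hom.base z ∈ U by rw [hg]; exact hw⟩
    · intro hz
      obtain ⟨g, hg⟩ := Set.mem_iUnion.1 hz
      exact ⟨_, hg, QuotLib.base_apply_inv hp g z⟩
  rw [h]
  exact isOpen_iUnion fun g => hU.preimage (ρ g).hom.continuous

theorem coheight_le_quot (hp : SGA1.IsQuot ρ p) (x : X) : Order.coheight x ≤ Order.coheight (p x) := by
  refine Order.coheight_le_coheight_apply_of_strictMono (fun y => p y) (fun y y' hlt => ?_) x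
  have hle : p y ≤ p y' := Scheme.le_iff_specializes.2 ((Scheme.le_iff_specializes.1 hlt.le).map p.continuous)
  refine lt_of_le_not_ge hle fun hge => ?_
  have heq : p y = p y' := ((Scheme.le_iff_specializes.1 hge).antisymm (Scheme.le_iff_specializes.1 hle)).eq
  obtain ⟨g, hg⟩ := QuotLib.exists_eq_of_base_eq hp heq
  have key : ∀ n : ℕ, y ≤ (ρ (g ^ n)).hom y := by
    intro n
    induction n with
    | zero => rw [pow_zero, QuotLib.hom_one]; exact le_rfl
    | succ n ih =>
      rw [pow_succ', ← QuotLib.comp_hom, Scheme.Hom.comp_apply]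
      have h1 : (ρ g).hom y ≤ (ρ g).hom ((ρ (g ^ n)).hom y) :=
        Scheme.le_iff_specializes.2 ((Scheme.le_iff_specializes.1 ih).map (ρ g).hom.continuous)
      refine le_trans ?_ h1
      rw [show (ρ g).hom y = y' from hg]
      exact hlt.le
  have h := key (orderOf g - 1)
  have h2 : (ρ g).hom y ≤ (ρ g).hom ((ρ (g ^ (orderOf g - 1))).hom y) :=
    Scheme.le_iff_specializes.2 ((Scheme.le_iff_specializes.1 h).map (ρ g).hom.continuous)
  rw [← Scheme.Hom.comp_apply (ρ (g ^ (orderOf g - 1))).hom, QuotLib.comp_hom, ← pow_succ',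
    Nat.sub_add_cancel (orderOf_pos g), pow_orderOf_eq_one, QuotLib.hom_one,
    show (ρ g).hom y = y' from hg] at h2
  exact hlt.not_ge h2

end quot

variable {k : Type u} [Field k] [IsAlgClosed k] {X Y : Scheme.{u}} (f : X ⟶ Spec (CommRingCat.of k))
  [IsSeparated f] {n : ℕ} {q : SymProd.fibPow f n ⟶ Y} {g : Y ⟶ Spec (CommRingCat.of k)}

omit [IsAlgClosed k] in
/-- Off the diagonals the quotient is étale. -/
theorem exists_etale_off_diag (hY : SymProd.IsSymProd f n q g) {x : SymProd.fibPow f n}
    (hx : ∀ a b : Fin n, a ≠ b → x ∉ diag f n a b) :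
    ∃ F : Y.Opens, q x ∈ F ∧ Etale ((q ⁻¹ᵁ F).ι ≫ q) := by
  classical
  have hquot := hY.isQuot
  let Dset : Set (SymProd.fibPow f n) := ⋃ (p : Fin n × Fin n) (_ : p.1 ≠ p.2), diag f n p.1 p.2
  have hD : IsClosed Dset :=
    isClosed_iUnion_of_finite fun p => isClosed_iUnion_of_finite fun _ => isClosed_diag f n _ _
  let U : (SymProd.fibPow f n).Opens := ⟨Dsetᶜ, hD.isOpen_compl⟩
  obtain ⟨F, hF⟩ := FlatSymLib.exists_open_preimage_eq hquot U (fun σ y hy hy' => hy (by
    obtain ⟨⟨a, b⟩, hab, hm⟩ : ∃ p : Fin n × Fin n, ∃ _ : p.1 ≠ p.2,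
        (SymProd.permActU f n σ).hom y ∈ diag f n p.1 p.2 := by
      simpa [Dset] using hy'
    have h2 := permHom_mem_diag f n a b σ.down⁻¹ (show SymProd.permHom f n σ.down y ∈ _ from hm)
    rw [← Scheme.Hom.comp_apply, ← SymProd.permHom_mul, inv_mul_cancel, SymProd.permHom_one] at h2
    exact Set.mem_iUnion₂.2 ⟨(σ.down⁻¹ a, σ.down⁻¹ b), fun h => hab (σ.down⁻¹.injective h), h2⟩))
  have hxF : x ∈ q ⁻¹ᵁ F := by
    rw [hF]
    intro h
    obtain ⟨p, hp, h⟩ := Set.mem_iUnion₂.1 h
    exact hx _ _ hp h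
  refine ⟨F, hxF, ?_⟩
  have hres := QuotLib.isQuot_restrict hquot F
  haveI : Etale (q ∣_ F) := QuotLib.etale_of_free hres (fun K _ _ ξ σ hσ => by
    by_contra hne
    have h1 := congrArg (· ≫ (q ⁻¹ᵁ F).ι) hσ
    simp only [Category.assoc, QuotLib.restrictAut_hom_ι] at h1
    obtain ⟨i, hi⟩ : ∃ i, σ.down.symm i ≠ i := by
      by_contra hno
      push Not at hno
      refine hne (ULift.ext _ _ (Equiv.ext fun i => ?_))
      have := hno (σ.down i)
      rw [Equiv.symm_apply_apply] at this
      exact this.symm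
    have h2 := congrArg (· ≫ WidePullback.π (fun _ : Fin n => f) i) h1
    simp only [Category.assoc, SymProd.permActU_hom, SymProd.permHom_π] at h2
    have h3 := mem_diag f n (σ.down.symm i) i (ξ ≫ (q ⁻¹ᵁ F).ι)
      (by simpa only [Category.assoc] using h2) (IsLocalRing.closedPoint K)
    have h4 : (ξ ≫ (q ⁻¹ᵁ F).ι) (IsLocalRing.closedPoint K) ∈ U := by
      rw [← hF]
      exact (ξ (IsLocalRing.closedPoint K)).2
    exact h4 (Set.mem_iUnion₂.2 ⟨(_, _), hi, h3⟩))
  rw [← morphismRestrict_ι]
  infer_instance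

/-- A permutation fixing a closed point up to which the quotient is étale fixes the local scheme. -/
theorem fromSpecStalk_perm [LocallyOfFiniteType (WidePullback.base fun _ : Fin n => f)]
    (hY : SymProd.IsSymProd f n q g) {z : SymProd.fibPow f n} (hz : IsClosed ({z} : Set (SymProd.fibPow f n)))
    (W : (SymProd.fibPow f n).Opens) (hzW : z ∈ W) [Etale (W.ι ≫ q)] (τ : Equiv.Perm (Fin n))
    (hτ : SymProd.permHom f n τ z = z) :
    (SymProd.fibPow f n).fromSpecStalk z ≫ SymProd.permHom f n τ = (SymProd.fibPow f n).fromSpecStalk z := by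
  haveI := hY.isQuot.affine
  let P := SymProd.fibPow f n
  let j := P.fromSpecStalk z
  have hrange : ∀ y, j y ∈ W := fun y => by
    have h : j y ⤳ z := by
      have : j y ∈ Set.range j := ⟨y, rfl⟩
      rwa [Scheme.range_fromSpecStalk] at this
    exact h.mem_open W.2 hzW
  have hrange2 : ∀ y, (j ≫ SymProd.permHom f n τ) y ∈ W := fun y => by
    have h : j y ⤳ z := by
      have : j y ∈ Set.range j := ⟨y, rfl⟩
      rwa [Scheme.range_fromSpecStalk] at this
    have h2 := h.map (SymProd.permHom f n τ).continuous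
    rw [hτ] at h2
    exact h2.mem_open W.2 hzW
  let a := IsOpenImmersion.lift W.ι j (by rintro _ ⟨y, rfl⟩; rw [Scheme.Opens.range_ι]; exact hrange y)
  let b := IsOpenImmersion.lift W.ι (j ≫ SymProd.permHom f n τ)
    (by rintro _ ⟨y, rfl⟩; rw [Scheme.Opens.range_ι]; exact hrange2 y)
  have ha : a ≫ W.ι = j := IsOpenImmersion.lift_fac ..
  have hb : b ≫ W.ι = j ≫ SymProd.permHom f n τ := IsOpenImmersion.lift_fac ..
  have hinv : SymProd.permHom f n τ ≫ q = q := hY.isQuot.inv ⟨τ⟩
  let s := pointOfClosedPoint (WidePullback.base fun _ : Fin n => f) z hz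
  have hs : s ≫ WidePullback.base (fun _ : Fin n => f) = 𝟙 _ := pointOfClosedPoint_comp _ z hz
  have hs2 : s (IsLocalRing.closedPoint k) = z := pointOfClosedPoint_apply _ z hz _
  have hsτ : s ≫ SymProd.permHom f n τ = s := by
    refine ext_of_apply_closedPoint_eq (WidePullback.base fun _ : Fin n => f) ?_ hs ?_
    · rw [Category.assoc, SymProd.permHom_base, hs]
    · rw [Scheme.Hom.comp_apply, hs2, hτ]
  obtain ⟨ξ, hξ⟩ : ∃ ξ : Spec (CommRingCat.of k) ⟶ Spec (P.presheaf.stalk z), ξ ≫ j = s := by
    have key : ∀ (w : P), w = s (IsLocalRing.closedPoint k) →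
        ∃ ξ : Spec (CommRingCat.of k) ⟶ Spec (P.presheaf.stalk w), ξ ≫ P.fromSpecStalk w = s := by
      rintro w rfl
      exact ⟨_, Scheme.Spec_stalkClosedPointTo_fromSpecStalk s⟩
    exact key z hs2.symm
  haveI : PreconnectedSpace (Spec (P.presheaf.stalk z) :) := by
    refine preconnectedSpace_iff_clopen.2 fun t ht => ?_
    by_cases hc : IsLocalRing.closedPoint (P.presheaf.stalk z) ∈ t
    · exact Or.inr (Set.eq_univ_of_forall fun y => (IsLocalRing.specializes_closedPoint y).mem_open ht.2 hc)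
    · exact Or.inl (Set.eq_empty_of_forall_notMem fun y hy =>
        hc ((IsLocalRing.specializes_closedPoint y).mem_closed ht.1 hy))
  have hab : a = b := by
    refine QuotLib.eq_of_eq_at_point (W.ι ≫ q) a b ?_ ξ ?_
    · rw [reassoc_of% ha, reassoc_of% hb, hinv]
    · rw [← cancel_mono W.ι, Category.assoc, Category.assoc, ha, hb, hξ, reassoc_of% hξ, hsτ]
  show j ≫ _ = j
  rw [← hb, ← hab, ha]

theorem isRegular_iff [Smooth f] [IrreducibleSpace X] (d : ℕ) (hd : 2 ≤ d) (hdim : topologicalKrullDim X = d)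
    (hn : 2 ≤ n) (hY : SymProd.IsSymProd f n q g) (z : SymProd.fibPow f n)
    (hz : IsClosed ({z} : Set (SymProd.fibPow f n))) :
    IsRegularLocalRing (Y.presheaf.stalk (q z)) ↔
      Function.Injective (fun i : Fin n => (WidePullback.π (fun _ : Fin n => f) i) z) := by
  classical
  have hquot := hY.isQuot
  haveI := hquot.affine
  haveI hrel := TransvLib.exists_relDim_eq f d hdim
  haveI hrelP := relDim_fibPow f d hrel n
  haveI : Smooth (WidePullback.base fun _ : Fin n => f) := SmoothOfRelativeDimension.smooth (n * d) _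
  let P := SymProd.fibPow f n
  let bP := WidePullback.base fun _ : Fin n => f
  have hreg : ∀ x : P, IsRegularLocalRing (P.presheaf.stalk x) := ASp.isRegularLocalRing_stalk_of_smooth_field bP
  haveI : LocallyOfFiniteType (q ≫ g) := by rw [hY.over]; infer_instance
  haveI hfin : IsFinite q := QuotLib.isFinite hquot g
  haveI : LocallyOfFiniteType g := QuotLib.locallyOfFiniteType hquot g
  haveI : IsLocallyNoetherian Y := LocallyOfFiniteType.isLocallyNoetherian g
  haveI : IsLocallyNoetherian P := LocallyOfFiniteType.isLocallyNoetherian bP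
  constructor
  · intro hy i j hij
    by_contra hne
    -- the transposition fixes the point
    let τ : Equiv.Perm (Fin n) := Equiv.swap i j
    have hbs := pointOfClosedPoint_comp bP z hz
    have hs2 : ∀ t, pointOfClosedPoint bP z hz t = z := pointOfClosedPoint_apply bP z hz
    have hzD : z ∈ diag f n i j := by
      rw [← hs2 (IsLocalRing.closedPoint k)]
      refine mem_diag f n i j _ ?_ _
      refine ext_of_apply_closedPoint_eq f ?_ ?_ ?_
      · rw [Category.assoc, WidePullback.π_arrow]; exact hbs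
      · rw [Category.assoc, WidePullback.π_arrow]; exact hbs
      · rw [Scheme.Hom.comp_apply, Scheme.Hom.comp_apply, hs2]
        exact hij
    have hτ : SymProd.permHom f n τ z = z := by
      obtain ⟨w, hw⟩ := hzD
      suffices h : diagι f n i j ≫ SymProd.permHom f n τ = diagι f n i j by
        rw [← hw, ← Scheme.Hom.comp_apply, h]
      refine WidePullback.hom_ext _ _ _ (fun l => ?_) ?_
      · rw [Category.assoc, SymProd.permHom_π]
        simp only [τ, Equiv.symm_swap, Equiv.swap_apply_def]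
        split_ifs with h1 h2
        · subst h1; exact (diagι_π f n _ _).symm
        · subst h2; exact diagι_π f n _ _
        · rfl
      · rw [Category.assoc, SymProd.permHom_base]
    -- dimensions
    have hle : ringKrullDim (P.presheaf.stalk z) ≤ ringKrullDim (Y.presheaf.stalk (q z)) := by
      rw [ringKrullDim_stalk_eq_coheight, ringKrullDim_stalk_eq_coheight]
      exact_mod_cast coheight_le_quot hquot z
    have hge : ringKrullDim (Y.presheaf.stalk (q z)) ≤ ringKrullDim (P.presheaf.stalk z) :=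
      DimFormulaLib.ringKrullDim_stalk_le_of_isOpenAt q z (fun s hs =>
        (isOpenMap_quot hquot).image_mem_nhds hs)
    have hdimz : ringKrullDim (P.presheaf.stalk z) = ((n * d : ℕ) : WithBot ℕ∞) := by
      rw [← DimFormulaLib.localDim_eq_of_isClosed bP z hz]
      exact S2768.localDim_eq (n * d) bP z
    haveI := hreg z
    obtain ⟨W, hzW, hW⟩ := S0255.result q z
      (PurityLib.isIntegrallyClosed_of_regular _) hy (q.quasiFiniteAt z)
      (le_antisymm hle hge) (by rw [hdimz]; exact_mod_cast Nat.one_le_iff_ne_zero.2 (Nat.mul_ne_zero (by omega) (by omega)))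
      fun x' _ hx' => by
        obtain ⟨F, hxF, hF⟩ := exists_etale_off_diag f hY (x := x') fun a b hab hm => by
          have h := height_le_of_mem_diag f d n a b hab x' hm
          rw [hx'] at h
          have : (d : ℕ) ≤ 1 := by exact_mod_cast h
          omega
        have h := FormallyUnramified.stalkMap ((q ⁻¹ᵁ F).ι ≫ q) ⟨x', hxF⟩
        rw [Scheme.Hom.stalkMap_comp] at h
        exact (RingHom.FormallyUnramified.respectsIso.cancel_right_isIso _ _).1 h
    haveI := hW
    have hgen := fromSpecStalk_perm f hY hz W hzW τ hτ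
    -- the generic point lies on the diagonal
    haveI : IsDomain (P.presheaf.stalk z) := (PurityLib.isIntegrallyClosed_of_regular _).1
    let η := P.fromSpecStalk z (⊥ : PrimeSpectrum (P.presheaf.stalk z))
    have hηD : η ∈ diag f n i j := by
      refine mem_diag f n i j _ ?_ _
      have h := congrArg (· ≫ WidePullback.π (fun _ : Fin n => f) i) hgen
      simp only [Category.assoc, SymProd.permHom_π, τ, Equiv.symm_swap, Equiv.swap_apply_left] at h
      exact h.symm
    have h0 := height_le_of_mem_diag f d n i j hne η hηD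
    have hmax : Order.coheight η = 0 := by
      rw [Order.coheight_eq_zero]
      intro y hy'
      have hsp : y ⤳ z := (Scheme.le_iff_specializes.1 hy').trans (by
        have : η ∈ Set.range (P.fromSpecStalk z) := ⟨_, rfl⟩
        rwa [Scheme.range_fromSpecStalk] at this)
      obtain ⟨Q, rfl⟩ : y ∈ Set.range (P.fromSpecStalk z) := by rw [Scheme.range_fromSpecStalk]; exact hsp
      exact Scheme.le_iff_specializes.2 (((PrimeSpectrum.le_iff_specializes _ _).1
        (bot_le : (⊥ : PrimeSpectrum (P.presheaf.stalk z)) ≤ Q)).map (P.fromSpecStalk z).continuous)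
    rw [ringKrullDim_stalk_eq_coheight, hmax] at h0
    have : d ≤ 0 := by exact_mod_cast h0
    omega
  · intro hinj
    obtain ⟨F, hzF, hF⟩ := exists_etale_off_diag f hY (x := z) fun a b hab hm =>
      hab (hinj (π_eq_of_mem_diag f n a b hm))
    let φ : Y.presheaf.stalk (q z) ⟶ (q ⁻¹ᵁ F).toScheme.presheaf.stalk ⟨z, hzF⟩ :=
      ((q ⁻¹ᵁ F).ι ≫ q).stalkMap ⟨z, hzF⟩
    letI : Algebra (Y.presheaf.stalk (q z)) ((q ⁻¹ᵁ F).toScheme.presheaf.stalk ⟨z, hzF⟩) := φ.hom.toAlgebra
    haveI : IsLocalHom (algebraMap (Y.presheaf.stalk (q z)) ((q ⁻¹ᵁ F).toScheme.presheaf.stalk ⟨z, hzF⟩)) :=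
      inferInstanceAs (IsLocalHom (((q ⁻¹ᵁ F).ι ≫ q).stalkMap ⟨z, hzF⟩).hom)
    haveI : Module.Flat (Y.presheaf.stalk (q z)) ((q ⁻¹ᵁ F).toScheme.presheaf.stalk ⟨z, hzF⟩) :=
      Flat.stalkMap ((q ⁻¹ᵁ F).ι ≫ q) ⟨z, hzF⟩
    haveI := hreg z
    haveI : IsRegularLocalRing ((q ⁻¹ᵁ F).toScheme.presheaf.stalk ⟨z, hzF⟩) :=
      IsRegularLocalRing.of_ringEquiv
        (asIso ((q ⁻¹ᵁ F).ι.stalkMap ⟨z, hzF⟩)).commRingCatIsoToRingEquiv
    haveI : IsNoetherianRing (Y.presheaf.stalk (q z)) := inferInstance
    exact S0565.result (Y.presheaf.stalk (q z)) ((q ⁻¹ᵁ F).toScheme.presheaf.stalk ⟨z, hzF⟩)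

end Groth.Agent.SymRegLib
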