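import Groth.Agent.TransvLib.RelDim
import Groth.Agent.DimFormulaLib.Field
import Groth.Agent.FlatSymLib.FibPow

/-! The diagonals of the fibre powers of a smooth scheme over a field have high codimension. -/

set_option autoImplicit false
set_option backward.isDefEq.respectTransparency false
set_option backward.isDefEq.respectTransparency.types false
set_option linter.style.haveILetI false
universe u
open CategoryTheory CategoryTheory.Limits AlgebraicGeometry

noncomputable section

namespace Groth.Agent.SymRegLib

/-- The relative dimension of a fibre power. -/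
theorem relDim_fibPow {X S : Scheme.{u}} (f : X ⟶ S) (d : ℕ) (hf : SmoothOfRelativeDimension d f) :
    ∀ n : ℕ, SmoothOfRelativeDimension (n * d) (WidePullback.base fun _ : Fin n => f) := by
  intro n
  induction n with
  | zero =>
    let j : S ⟶ SymProd.fibPow f 0 := WidePullback.lift (𝟙 S) (fun i => i.elim0) (fun i => i.elim0)
    haveI : IsIso (WidePullback.base fun _ : Fin 0 => f) :=
      ⟨j, WidePullback.hom_ext _ _ _ (fun i => i.elim0) (by
        rw [Category.assoc, WidePullback.lift_base, Category.comp_id, Category.id_comp]), WidePullback.lift_base ..⟩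
    rw [Nat.zero_mul]
    infer_instance
  | succ n ih =>
    haveI := ih
    haveI := smoothOfRelativeDimension_isStableUnderBaseChange (n := d)
    haveI : SmoothOfRelativeDimension d (FlatSymLib.dropLast f n) :=
      MorphismProperty.of_isPullback (P := @SmoothOfRelativeDimension d) (FlatSymLib.isPullback_dropLast f n).flip hf
    have h : WidePullback.base (fun _ : Fin (n + 1) => f) =
        FlatSymLib.dropLast f n ≫ WidePullback.base (fun _ : Fin n => f) := (WidePullback.lift_base ..).symm
    rw [h, show (n + 1) * d = d + n * d by ring]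
    infer_instance

variable {X S : Scheme.{u}} (f : X ⟶ S) [IsSeparated f] (n : ℕ) (a b : Fin n)

/-- The scheme where two projections agree. -/
abbrev diagScheme : Scheme.{u} :=
  pullback (pullback.lift (WidePullback.π (fun _ : Fin n => f) a) (WidePullback.π (fun _ : Fin n => f) b)
    (by rw [WidePullback.π_arrow, WidePullback.π_arrow])) (pullback.diagonal f)

/-- Its inclusion. -/
def diagι : diagScheme f n a b ⟶ SymProd.fibPow f n := pullback.fst _ _

instance : IsClosedImmersion (diagι f n a b) := by
  unfold diagι
  infer_instance

theorem diagι_π : diagι f n a b ≫ WidePullback.π (fun _ : Fin n => f) a =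
    diagι f n a b ≫ WidePullback.π (fun _ : Fin n => f) b := by
  have h : diagι f n a b ≫ pullback.lift (WidePullback.π (fun _ : Fin n => f) a) (WidePullback.π (fun _ : Fin n => f) b)
      (by rw [WidePullback.π_arrow, WidePullback.π_arrow]) = _ ≫ pullback.diagonal f := pullback.condition
  have h1 := congrArg (· ≫ pullback.fst f f) h
  have h2 := congrArg (· ≫ pullback.snd f f) h
  simp only [Category.assoc, pullback.lift_fst, pullback.lift_snd, pullback.diagonal_fst, pullback.diagonal_snd,
    Category.comp_id] at h1 h2
  exact h1.trans h2.symm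

/-- The diagonal. -/
def diag : Set (SymProd.fibPow f n) := Set.range (diagι f n a b)

theorem isClosed_diag : IsClosed (diag f n a b) := (diagι f n a b).isClosedEmbedding.isClosed_range

theorem mem_diag {T : Scheme.{u}} (k : T ⟶ SymProd.fibPow f n)
    (hk : k ≫ WidePullback.π (fun _ : Fin n => f) a = k ≫ WidePullback.π (fun _ : Fin n => f) b) (t : T) :
    k t ∈ diag f n a b := by
  have hc : k ≫ pullback.lift (WidePullback.π (fun _ : Fin n => f) a) (WidePullback.π (fun _ : Fin n => f) b)
      (by rw [WidePullback.π_arrow, WidePullback.π_arrow]) =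
      (k ≫ WidePullback.π (fun _ : Fin n => f) a) ≫ pullback.diagonal f := by
    apply pullback.hom_ext
    · simp only [Category.assoc, pullback.lift_fst, pullback.diagonal_fst, Category.comp_id]
    · simp only [Category.assoc, pullback.lift_snd, pullback.diagonal_snd, Category.comp_id]
      exact hk.symm
  exact ⟨pullback.lift k _ hc t, by rw [diagι, ← Scheme.Hom.comp_apply, pullback.lift_fst]⟩

theorem π_eq_of_mem_diag {z : SymProd.fibPow f n} (hz : z ∈ diag f n a b) :
    WidePullback.π (fun _ : Fin n => f) a z = WidePullback.π (fun _ : Fin n => f) b z := by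
  obtain ⟨w, rfl⟩ := hz
  rw [← Scheme.Hom.comp_apply, diagι_π, Scheme.Hom.comp_apply]

theorem permHom_mem_diag (σ : Equiv.Perm (Fin n)) {z : SymProd.fibPow f n} (hz : z ∈ diag f n a b) :
    SymProd.permHom f n σ z ∈ diag f n (σ a) (σ b) := by
  obtain ⟨w, rfl⟩ := hz
  rw [← Scheme.Hom.comp_apply]
  refine mem_diag f n (σ a) (σ b) _ ?_ w
  simp only [Category.assoc, SymProd.permHom_π, Equiv.symm_apply_apply]
  exact diagι_π f n a b

theorem height_le_of_mem_diag {k : Type u} [Field k] (f : X ⟶ Spec (CommRingCat.of k)) [IsSeparated f] (d : ℕ)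
    [SmoothOfRelativeDimension d f] (n : ℕ) (a b : Fin n) (hab : a ≠ b) (x : SymProd.fibPow f n)
    (hx : x ∈ diag f n a b) : (d : WithBot ℕ∞) ≤ ringKrullDim ((SymProd.fibPow f n).presheaf.stalk x) := by
  cases n with
  | zero => exact a.elim0
  | succ m =>
    haveI := relDim_fibPow f d ‹_› m
    haveI := relDim_fibPow f d ‹_› (m + 1)
    haveI : Smooth (WidePullback.base fun _ : Fin m => f) := SmoothOfRelativeDimension.smooth (m * d) _
    haveI : Smooth (WidePullback.base fun _ : Fin (m + 1) => f) := SmoothOfRelativeDimension.smooth ((m + 1) * d) _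
    obtain ⟨a', rfl⟩ := Fin.exists_succAbove_eq hab
    let p : ∀ i, SymProd.fibPow f (m + 1) ⟶ X := fun i => WidePullback.π (fun _ : Fin (m + 1) => f) i
    let r : SymProd.fibPow f (m + 1) ⟶ SymProd.fibPow f m :=
      WidePullback.lift (WidePullback.base _) (fun i => p (b.succAbove i)) (fun i => WidePullback.π_arrow _ _)
    let ψ : SymProd.fibPow f m ⟶ SymProd.fibPow f (m + 1) :=
      WidePullback.lift (WidePullback.base _)
        (Fin.insertNth b (WidePullback.π (fun _ : Fin m => f) a') (fun i => WidePullback.π (fun _ : Fin m => f) i))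
        (fun i => by
          cases i using Fin.succAboveCases b with
          | x => rw [Fin.insertNth_apply_same, WidePullback.π_arrow]
          | p i => rw [Fin.insertNth_apply_succAbove, WidePullback.π_arrow])
    have hrψ : diagι f (m + 1) (b.succAbove a') b ≫ r ≫ ψ = diagι f (m + 1) (b.succAbove a') b := by
      refine WidePullback.hom_ext _ _ _ (fun i => ?_) ?_
      · cases i using Fin.succAboveCases b with
        | x =>
          simp only [Category.assoc, ψ, r, p, WidePullback.lift_π, Fin.insertNth_apply_same]
          exact diagι_π f (m + 1) _ _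
        | p i => simp only [Category.assoc, ψ, r, p, WidePullback.lift_π, Fin.insertNth_apply_succAbove]
      · simp only [Category.assoc, ψ, r, WidePullback.lift_base]
    have hfix : ∀ y, y ∈ diag f (m + 1) (b.succAbove a') b → ψ (r y) = y := by
      rintro _ ⟨w, rfl⟩
      rw [← Scheme.Hom.comp_apply, ← Scheme.Hom.comp_apply, hrψ]
    have hmono : ∀ y y' : SymProd.fibPow f (m + 1), y ≤ y' → r y ≤ r y' := fun y y' h =>
      Scheme.le_iff_specializes.2 ((Scheme.le_iff_specializes.1 h).map r.continuous)
    obtain ⟨A, t, hA, -, hloc, hh⟩ := DimFormulaLib.field_dims (WidePullback.base fun _ : Fin (m + 1) => f) x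
    obtain ⟨A', t', -, -, hloc', hh'⟩ := DimFormulaLib.field_dims (WidePullback.base fun _ : Fin m => f) (r x)
    rw [S2768.localDim_eq ((m + 1) * d) (WidePullback.base fun _ : Fin (m + 1) => f)] at hloc
    rw [S2768.localDim_eq (m * d) (WidePullback.base fun _ : Fin m => f)] at hloc'
    have ht : Order.height x ≤ Order.height (r x) := by
      refine Order.height_le fun s hs => ?_
      have hmem : ∀ i, s i ∈ diag f (m + 1) (b.succAbove a') b := fun i =>
        (Scheme.le_iff_specializes.1 (hs ▸ s.monotone (Fin.le_last i) : s i ≤ x)).mem_closed (isClosed_diag ..) hx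
      have hstrict : StrictMono fun i => r (s i) := fun i i' hii => lt_of_le_not_ge
        (hmono _ _ (s.strictMono hii).le) fun hle => (s.strictMono hii).not_ge (by
          rw [← hfix _ (hmem i), ← hfix _ (hmem i')]
          exact Scheme.le_iff_specializes.2 ((Scheme.le_iff_specializes.1 hle).map ψ.continuous))
      let s' : LTSeries (SymProd.fibPow f m) := LTSeries.mk s.length (fun i => r (s i)) hstrict
      have : s'.last ≤ r x := by
        show r (s (Fin.last _)) ≤ r x
        rw [← hs]
        rfl
      exact Order.length_le_height (p := s') this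
    rw [hh, hh'] at ht
    rw [hA]
    have h1 : (m + 1) * d = A + t := by exact_mod_cast hloc
    have h2 : m * d = A' + t' := by exact_mod_cast hloc'
    have h3 : t ≤ t' := by exact_mod_cast ht
    have h4 : d ≤ A := by rw [Nat.succ_mul] at h1; omega
    exact_mod_cast h4

end Groth.Agent.SymRegLib
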